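import Groth.Agent.Lib.MTRigid29.BaseChange
import Groth.Agent.Lib.MTRigid29.TrivGlobal
import Groth.Agent.Lib.MTRigid29.NormalCentral
import Groth.Agent.Lib.GrpDim20.Basic
import Groth.Agent.Lib.CentLift20.Hom

/-!
# The kernel of multiplication by `n` on a group of multiplicative type
-/

set_option autoImplicit false
set_option linter.style.haveILetI false
set_option linter.unusedSectionVars false
set_option backward.isDefEq.respectTransparency.types false
universe u

open CategoryTheory Limits MonoidalCategory CartesianMonoidalCategory MonObj AlgebraicGeometry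
open Groth.Agent.DiagGL

noncomputable section

namespace Groth.Agent.TorsLift20

variable {S : Scheme.{u}}

/-- The subgroup killed by `n`, as a diagonalisable group. -/
def charsKer {M : Type} [AddCommGroup M] {σ κ : Over S} [GrpObj σ] [GrpObj κ] (C : Chars M σ) (k : κ ⟶ σ)
    [IsMonHom k] [Mono k] (n : ℕ) (hk : ∀ (T : Over S) (x : T ⟶ σ), (∃ y, y ≫ k = x) ↔ x ^ n = 1) :
    Chars (M ⧸ (nsmulAddMonoidHom n : M →+ M).range) κ where
  ch {T} y :=
    { toFun := fun a => Quotient.liftOn' a.toAdd (fun m => C.ch (y ≫ k) (Multiplicative.ofAdd m)) (by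
        intro m m' h
        obtain ⟨d, hd⟩ := QuotientAddGroup.leftRel_apply.1 h
        have h1 : (y ≫ k) ^ n = 1 := (hk T (y ≫ k)).1 ⟨y, rfl⟩
        have key : ∀ (j : ℕ) (a : Multiplicative M), C.ch ((y ≫ k) ^ j) a = C.ch (y ≫ k) a ^ j := by
          intro j
          induction j with
          | zero => exact fun a => by rw [pow_zero, pow_zero, C.one]
          | succ j ih => exact fun a => by rw [pow_succ, pow_succ, C.mul, ih]
        have h2 : C.ch (y ≫ k) (Multiplicative.ofAdd (n • d)) = 1 := by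
          rw [ofAdd_nsmul, map_pow, ← key, h1, C.one]
        have hm : m' = m + n • d := by
          rw [show n • d = (nsmulAddMonoidHom n : M →+ M) d from rfl, hd]; abel
        show C.ch (y ≫ k) (Multiplicative.ofAdd m) = C.ch (y ≫ k) (Multiplicative.ofAdd m')
        rw [hm, ofAdd_add, map_mul, h2, _root_.mul_one])
      map_one' := map_one (C.ch (y ≫ k))
      map_mul' := by
        rintro ⟨a⟩ ⟨b⟩
        exact map_mul (C.ch (y ≫ k)) _ _ }
  nat t y a := by
    obtain ⟨m⟩ := a
    show C.ch ((t ≫ y) ≫ k) _ = t.left.appTop (C.ch (y ≫ k) _)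
    rw [Category.assoc, C.nat]
  mul x y a := by
    obtain ⟨m⟩ := a
    show C.ch ((x * y) ≫ k) _ = C.ch (x ≫ k) _ * C.ch (y ≫ k) _
    rw [MonObj.mul_comp, C.mul]
  inj {T x y} h := by
    rw [← cancel_mono k]
    exact C.inj fun a => h (Multiplicative.ofAdd ((a.toAdd : M) : M ⧸ (nsmulAddMonoidHom n : M →+ M).range))
  surj {T} c := by
    let q : Multiplicative M →* Multiplicative (M ⧸ (nsmulAddMonoidHom n : M →+ M).range) :=
      AddMonoidHom.toMultiplicative (QuotientAddGroup.mk' _)
    obtain ⟨x, hx⟩ := C.surj (c.comp q)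
    have key : ∀ (j : ℕ) (a : Multiplicative M), C.ch (x ^ j) a = C.ch x a ^ j := by
      intro j
      induction j with
      | zero => exact fun a => by rw [pow_zero, pow_zero, C.one]
      | succ j ih => exact fun a => by rw [pow_succ, pow_succ, C.mul, ih]
    have hxn : x ^ n = 1 := C.inj fun a => by
      rw [key, C.one, hx, MonoidHom.comp_apply, ← map_pow, ← map_pow,
        show q (a ^ n) = 1 from congrArg Multiplicative.ofAdd ((QuotientAddGroup.eq_zero_iff _).2 ⟨a.toAdd, rfl⟩),
        map_one]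
    obtain ⟨y, rfl⟩ := (hk T x).2 hxn
    refine ⟨y, MonoidHom.ext ?_⟩
    rintro ⟨m⟩
    exact DFunLike.congr_fun hx (Multiplicative.ofAdd m)

/-- The kernel of the `n`-th power map of a group of multiplicative type. -/
theorem exists_ker (H : Over S) [GrpObj H] (hH : SGA3x.IsMultTypeFT H) (n : ℕ) :
    ∃ (K : Over S) (_ : GrpObj K) (k : K ⟶ H), IsMonHom k ∧ IsImmersion k.left ∧
      (∀ (T : Over S) (x : T ⟶ H), (∃ y, y ≫ k = x) ↔ x ^ n = 1) ∧ MTRigid29.IsMT K := by
  let pw : H ⟶ H := (𝟙 H) ^ n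
  haveI : IsMonHom pw := CentLift20.isMonHom_of_mul pw fun X a b => by
    simp only [pw, MonObj.comp_pow, Category.comp_id]
    exact (show Commute a b from MTRigid29.commute_of_isMultTypeFT hH a b).mul_pow n
  let k : pullback pw η[H] ⟶ H := pullback.fst pw η[H]
  have sq : IsPullback k (toUnit _) pw η[H] := by
    convert IsPullback.of_hasPullback pw η[H] using 1
    exact toUnit_unique _ _
  obtain ⟨_, hkm⟩ := GrpDim20.exists_grpObj_kernel pw k sq
  haveI := hkm
  haveI : IsImmersion k.left := by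
    haveI : IsImmersion η[H].left := by
      haveI : IsImmersion (η[H].left ≫ H.hom) := by
        rw [Over.w η[H]]; exact (inferInstanceAs (IsImmersion (𝟙 S)))
      exact IsImmersion.of_comp η[H].left H.hom
    exact MorphismProperty.of_isPullback (P := @IsImmersion) (sq.map (Over.forget _)).flip
      ‹IsImmersion η[H].left›
  haveI : Mono k := Over.mono_of_mono_left k
  have hfac : ∀ (T : Over S) (x : T ⟶ H), (∃ y, y ≫ k = x) ↔ x ^ n = 1 := fun T x => by
    constructor
    · rintro ⟨y, rfl⟩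
      rw [← Category.comp_id (y ≫ k), ← MonObj.comp_pow, Category.assoc, sq.w, ← Category.assoc,
        comp_toUnit, ← Hom.one_def]
    · intro h
      exact ⟨sq.lift x (toUnit T) (by rw [MonObj.comp_pow, Category.comp_id, h, Hom.one_def]), sq.lift_fst _ _ _⟩
  refine ⟨_, inferInstance, k, hkm, inferInstance, hfac, ?_⟩
  obtain ⟨S', f, h1, h2, h3, h4⟩ := hH
  refine ⟨S', f, h1, h2, h3, fun s => ?_⟩
  obtain ⟨U, hU, M, _, -, ⟨e⟩⟩ := h4 s
  let F := Over.pullback (U.ι ≫ f)
  haveI : IsMonHom (F.map k) := inferInstance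
  haveI : Mono (F.map k) := inferInstance
  refine ⟨U, hU, M ⧸ (nsmulAddMonoidHom n : M →+ M).range, inferInstance,
    MTRigid29.nonempty_grpIso_of_chars (charsKer ((charsDS (U : Scheme.{u}) M).transport e) (F.map k) n ?_)
      (charsDS (U : Scheme.{u}) (M ⧸ (nsmulAddMonoidHom n : M →+ M).range))⟩
  intro T x
  have hflpow : ∀ j : ℕ, fl (U.ι ≫ f) H (x ^ j) = fl (U.ι ≫ f) H x ^ j := by
    intro j
    induction j with
    | zero => rw [pow_zero, pow_zero, MTRigid29.fl_one]
    | succ j ih => rw [pow_succ, pow_succ, fl_mul, ih]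
  constructor
  · rintro ⟨y, rfl⟩
    refine fl_injective (U.ι ≫ f) H ?_
    rw [hflpow, MTRigid29.fl_one]
    exact (hfac _ _).1 ⟨fl (U.ι ≫ f) _ y, (fl_comp_map (U.ι ≫ f) y k).symm⟩
  · intro h
    obtain ⟨z, hz⟩ := (hfac _ (fl (U.ι ≫ f) H x)).2 (by rw [← hflpow, h, MTRigid29.fl_one])
    obtain ⟨y, rfl⟩ := fl_surjective (U.ι ≫ f) _ z
    exact ⟨y, fl_injective (U.ι ≫ f) H (by rw [fl_comp_map]; exact hz)⟩

end Groth.Agent.TorsLift20
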