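import Groth.Agent.Lib.MTRigid29.SubgrpLift
import Groth.Agent.Lib.MTRigid29.SpMultType
import Groth.Agent.Lib.MTRigid29.TrivGlobal

/-!
# Subgroups of multiplicative type lift, with the type of the lift
-/

set_option autoImplicit false
set_option linter.style.haveILetI false
set_option backward.isDefEq.respectTransparency.types false
set_option maxSynthPendingDepth 3

universe u

open CategoryTheory Limits MonoidalCategory CartesianMonoidalCategory MonObj AlgebraicGeometry
open scoped TensorProduct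
open WithConv

noncomputable section

namespace Groth.Agent.TorsLift20

open DiagGL MTRigid29

variable {R : Type u} [CommRing R]

set_option maxHeartbeats 400000 in
/-- A subgroup of multiplicative type of the reduction of a smooth group lifts. -/
theorem exists_subgroup_lift_mt (J : Ideal R) (hJ : IsNilpotent J) (G : Over (Spec (CommRingCat.of R))) [GrpObj G]
    (hG : Smooth G.hom) (H₀ : Over (Spec (CommRingCat.of (R ⧸ J)))) [GrpObj H₀] (hH₀ : IsMT H₀)
    (j₀ : H₀ ⟶ Red.bc (Spec.map (CommRingCat.ofHom (Ideal.Quotient.mk J))) G) [IsMonHom j₀] [IsImmersion j₀.left] :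
    ∃ (H : Over (Spec (CommRingCat.of R))) (_ : GrpObj H) (j : H ⟶ G), IsMonHom j ∧ IsImmersion j.left ∧
      SGA3x.IsMultTypeFT H ∧ ∃ φ : Red.bc (Spec.map (CommRingCat.ofHom (Ideal.Quotient.mk J))) H ≅ H₀,
        φ.hom ≫ j₀ = (Over.pullback (Spec.map (CommRingCat.ofHom (Ideal.Quotient.mk J)))).map j := by
  obtain ⟨A₀, _, _, -, -, hsplit, ⟨eG⟩⟩ := exists_model_split hH₀
  haveI := hG
  let e₀ : CoactBr.sp (R ⧸ J) A₀ ≅ H₀ :=
    ⟨eG.hom.hom.hom, eG.inv.hom.hom, by rw [← Mon.comp_hom', ← Grp.comp', eG.hom_inv_id]; rfl,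
      by rw [← Mon.comp_hom', ← Grp.comp', eG.inv_hom_id]; rfl⟩
  haveI : IsMonHom e₀.hom := eG.hom.hom.isMonHom_hom
  haveI : IsIso e₀.hom.left := inferInstanceAs (IsIso ((Over.forget _).map e₀.hom))
  haveI : LocallyOfFiniteType H₀.hom := by
    rw [← Over.w j₀]
    haveI : Smooth (Red.bc (Spec.map (CommRingCat.ofHom (Ideal.Quotient.mk J))) G).hom :=
      MorphismProperty.pullback_snd _ _ hG
    infer_instance
  have hft : Algebra.FiniteType (R ⧸ J) A₀ := by
    have h : LocallyOfFiniteType (CoactBr.sp (R ⧸ J) A₀).hom := by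
      rw [← Over.w e₀.hom]
      infer_instance
    exact RingHom.finiteType_algebraMap.1 ((HasRingHomProperty.Spec_iff (P := @LocallyOfFiniteType)).1 h)
  obtain ⟨A, _, _, hqi, ⟨E⟩⟩ := Groth.Agent.S2979.result R J
    (fun x hx => by
      obtain ⟨n, hn⟩ := hJ
      refine ⟨n, ?_⟩
      have h := Ideal.pow_mem_pow hx n
      rwa [hn, Ideal.zero_eq_bot, Submodule.mem_bot] at h) A₀
    (Groth.Agent.S2973.result (R ⧸ J) A₀ hft (isMultType_of_isSplit hsplit))
  have hMT := MultTypeLib.isMultType_of_isQuasiIsotrivial hqi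
  haveI hflat := flat_of_isMultType hMT
  obtain ⟨j, hj⟩ := MultTypeLib.exists_isInt_of_isMultType hMT
  let f : A₀ →ₐc[R ⧸ J] AA A J := E.symm.toBialgHom
  let z : CoactBr.sp (R ⧸ J) (AA A J) ⟶ H₀ := CoactBr.pt (f : A₀ →ₐ[R ⧸ J] AA A J) ≫ e₀.hom
  let x : Pts G (AA A J) := theta J j₀ (AA A J) z
  obtain ⟨w, hw, hwx⟩ := exists_monHom_lift_smooth hj (Iso.refl (Grp.mk (CoactBr.sp R A))) hG hJ x
    (isHom_theta J j₀ f e₀.hom)
  let π : A →+* AA A J := (Algebra.TensorProduct.includeRight : A →ₐ[R] AA A J)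
  have hleft : Spec.map (CommRingCat.ofHom π) ≫ w.left =
      z.left ≫ j₀.left ≫ pullback.fst G.hom (Spec.map (CommRingCat.ofHom (Ideal.Quotient.mk J))) := by
    rw [← theta_left]
    refine Eq.trans ?_ (Category.id_comp _)
    refine Eq.trans ?_ (congrArg CommaMorphism.left hwx)
    show Spec.map (CommRingCat.ofHom π) ≫ w.left = ((CoactBr.pt (gen J)).left ≫ 𝟙 _) ≫ w.left
    rw [Category.comp_id]
    rfl
  let p₀ : CoactBr.sp (R ⧸ J) (AA A J) ≅ CoactBr.sp (R ⧸ J) A₀ :=
    ⟨CoactBr.pt (f : A₀ →ₐ[R ⧸ J] AA A J), CoactBr.pt (E.toBialgHom : AA A J →ₐ[R ⧸ J] A₀),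
      by
        rw [← CoactBr.pt_comp, ← CoactBr.pt_id]
        exact congrArg CoactBr.pt (AlgHom.ext fun a => E.symm_apply_apply a),
      by
        rw [← CoactBr.pt_comp, ← CoactBr.pt_id]
        exact congrArg CoactBr.pt (AlgHom.ext fun a => E.apply_symm_apply a)⟩
  haveI : IsIso z.left := inferInstanceAs (IsIso ((Over.forget _).map (p₀ ≪≫ e₀).hom))
  haveI : IsClosedImmersion (Spec.map (CommRingCat.ofHom (Ideal.Quotient.mk J))) :=
    IsClosedImmersion.spec_of_surjective _ Ideal.Quotient.mk_surjective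
  haveI : IsImmersion (Spec.map (CommRingCat.ofHom π) ≫ w.left) := by
    rw [hleft]
    haveI : IsImmersion (pullback.fst G.hom (Spec.map (CommRingCat.ofHom (Ideal.Quotient.mk J)))) :=
      MorphismProperty.pullback_fst _ _ inferInstance
    haveI : IsImmersion (j₀.left ≫ pullback.fst G.hom (Spec.map (CommRingCat.ofHom (Ideal.Quotient.mk J)))) :=
      MorphismProperty.comp_mem _ _ _ ‹IsImmersion j₀.left› ‹_›
    exact (MorphismProperty.cancel_left_of_respectsIso @IsImmersion z.left _).2 ‹_›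
  refine ⟨CoactBr.sp R A, inferInstance, w, hw,
    NilImmersion.isImmersion_of_mod π (surjective_includeRight J A) J hJ (ker_includeRight J A) w.left G.hom
      (Over.w w),
    ?_,
    bcSpIso J A ≪≫ p₀ ≪≫ e₀, ?_⟩
  · haveI : Smooth G.hom := hG
    haveI := NilImmersion.isImmersion_of_mod π (surjective_includeRight J A) J hJ (ker_includeRight J A) w.left G.hom
      (Over.w w)
    haveI hlft : LocallyOfFiniteType (CoactBr.sp R A).hom := by
      rw [← Over.w w]
      haveI : IsImmersion w.left := by assumption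
      haveI : LocallyOfFiniteType w.left := inferInstance
      haveI : LocallyOfFiniteType G.hom := inferInstance
      exact MorphismProperty.comp_mem @LocallyOfFiniteType _ _ ‹LocallyOfFiniteType w.left› ‹_›
    haveI : Algebra.FiniteType R A :=
      RingHom.finiteType_algebraMap.1 ((HasRingHomProperty.Spec_iff (P := @LocallyOfFiniteType)).1 hlft)
    exact IsotrivialNormal.isMultTypeFT_sp hMT
  refine Over.OverMorphism.ext (pullback.hom_ext ?_ ?_)
  · show ((bcSpIso J A).hom.left ≫ z.left) ≫ j₀.left ≫ pullback.fst _ _ = _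
    refine (Category.assoc _ _ _).trans ?_
    refine (congrArg ((bcSpIso J A).hom.left ≫ ·) hleft.symm).trans ?_
    refine (Category.assoc _ _ _).symm.trans ?_
    refine (congrArg (· ≫ w.left) (bcSpIso_fst J A)).trans ?_
    exact (pullback.lift_fst _ _ _).symm
  · refine Eq.trans ?_ (Over.w ((Over.pullback (Spec.map (CommRingCat.ofHom (Ideal.Quotient.mk J)))).map w)).symm
    exact Over.w ((bcSpIso J A ≪≫ p₀ ≪≫ e₀).hom ≫ j₀)

end Groth.Agent.TorsLift20
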